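import Cfsg.Agent.H315.SR.GX

/-!
# Intervals in simply laced root systems (helper315, for S4971, TEAM SR)

* `btwn_eq` : in a simply laced system the only root strictly between two positive roots `x ≠ y` is `x + y`;
* `Ind.act` : the Weyl group preserves the indecomposable elements of a finite set `S` with `w S ⊆ S`.
-/

set_option autoImplicit false
set_option linter.unusedSectionVars false

namespace Cfsg.Agent.H315.SR

open CoxeterSystem Cfsg.Agent.ChevalleyStructure.CoxeterGeom Cfsg.Agent.Tits.Roots Cfsg.Agent.Tits.Core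
  Cfsg.Agent.Tits.RootComb Cfsg.Agent.Nodes.Reps Cfsg.Agent.Nodes.BNOf Cfsg.Agent.Nodes.Unique
  Cfsg.Agent.Nodes.Coroot Cfsg.Agent.Nodes.SimplyLaced

variable {I W : Type*} [Fintype I] [DecidableEq I] [Group W] {M : CoxeterMatrix I}
  {cs : CoxeterSystem M W} {A : I → I → ℤ} {h : IsCartan M A}

theorem ne_neg_of_nonneg {x y : I → ℤ} (hx : IsRoot cs h x) (hx0 : 0 ≤ x) (hy0 : 0 ≤ y) : x ≠ -y := by
  intro e
  exact hx.not_pos_neg hx0 (by rw [e]; exact neg_nonpos.2 hy0)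

theorem btwn_eq [Finite W] (h4 : ∀ i j, M i j ≠ 4) (h6 : ∀ i j, M i j ≠ 6) {x y z : I → ℤ} (hx : IsRoot cs h x)
    (hy : IsRoot cs h y) (hx0 : 0 ≤ x) (hy0 : 0 ≤ y) (hxy : x ≠ y) (hz : Btwn cs h x y z) : z = x + y := by
  have hz0 : 0 ≤ z := RGD.nonneg_of_btwn hx0 hy0 hz
  have hzx : z ≠ x := btwn_ne_left hx hy hx0 hy0 hxy hz
  have hzy : z ≠ y := btwn_ne_right hx hy hx0 hy0 hxy hz
  have hzr := hz.1
  have c1 := abs_cpr_le_one cs h h4 h6 hy hx hxy.symm (ne_neg_of_nonneg hy hy0 hx0)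
  have c2 := abs_cpr_le_one cs h h4 h6 hzr hx hzx (ne_neg_of_nonneg hzr hz0 hx0)
  have c3 := abs_cpr_le_one cs h h4 h6 hzr hy hzy (ne_neg_of_nonneg hzr hz0 hy0)
  obtain ⟨-, m, a, b, hm, ha, hb, he⟩ := hz
  have e1 : m * cpr cs h z x = a * 2 + b * cpr cs h y x := by
    have h1 := congrArg (fun v => cpr cs h v x) he
    simp only [cpr_add cs h _ _ hx, cpr_smul cs h _ _ hx, cpr_self cs h hx] at h1
    exact h1
  have e2 : m * cpr cs h z y = a * cpr cs h y x + b * 2 := by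
    have h1 := congrArg (fun v => cpr cs h v y) he
    simp only [cpr_add cs h _ _ hy, cpr_smul cs h _ _ hy, cpr_self cs h hy] at h1
    rw [cpr_symm cs h h4 h6 hx hy] at h1
    exact h1
  have e3 : m * 2 = a * cpr cs h z x + b * cpr cs h z y := by
    have h1 := congrArg (fun v => cpr cs h v z) he
    simp only [cpr_add cs h _ _ hzr, cpr_smul cs h _ _ hzr, cpr_self cs h hzr] at h1
    rw [cpr_symm cs h h4 h6 hx hzr, cpr_symm cs h h4 h6 hy hzr] at h1
    exact h1
  generalize cpr cs h z x = s at *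
  generalize cpr cs h z y = r at *
  generalize cpr cs h y x = c at *
  rw [abs_le] at c1 c2 c3
  have key : a = m ∧ b = m := by
    have hs : s = -1 ∨ s = 0 ∨ s = 1 := by omega
    have hr : r = -1 ∨ r = 0 ∨ r = 1 := by omega
    have hc : c = -1 ∨ c = 0 ∨ c = 1 := by omega
    rcases hs with rfl | rfl | rfl <;> rcases hr with rfl | rfl | rfl <;> rcases hc with rfl | rfl | rfl <;> omega
  obtain ⟨rfl, rfl⟩ := key
  rw [← smul_add] at he
  funext i
  have h1 := congrFun he i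
  rw [Pi.smul_apply, Pi.smul_apply, smul_eq_mul, smul_eq_mul] at h1
  exact mul_left_cancel₀ hm.ne' h1

theorem Ind.act {S : Set (I → ℤ)} (hfin : S.Finite) {a : I → ℤ} (hS : Ind cs h S a) {w : W}
    (hw : ∀ x ∈ S, rep cs h w x ∈ S) : Ind cs h S (rep cs h w a) := by
  have hinj : Set.InjOn (rep cs h w) S := fun x _ y _ e => by
    have h6 := congrArg (rep cs h w⁻¹) e
    rwa [rep_inv_apply, rep_inv_apply] at h6
  have hsurj : ∀ x ∈ S, rep cs h w⁻¹ x ∈ S := by
    intro x hx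
    have h1 : (rep cs h w) '' S = S := by
      refine Set.eq_of_subset_of_ncard_le (Set.image_subset_iff.2 hw) ?_ hfin
      rw [Set.InjOn.ncard_image hinj]
    rw [← h1] at hx
    obtain ⟨y, hy, rfl⟩ := hx
    rw [rep_inv_apply]
    exact hy
  refine ⟨hS.pos, hS.closed, hw a hS.mem, ?_⟩
  rintro x ⟨hx, hxa⟩ y ⟨hy, hya⟩ z hz
  refine ⟨hS.closed x hx y hy z hz, fun hza => ?_⟩
  rw [Set.mem_singleton_iff] at hza
  have key : ∀ v : I → ℤ, v ≠ rep cs h w a → rep cs h w⁻¹ v ≠ a := by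
    intro v hv e
    apply hv
    rw [← e, rep_apply_inv]
  have h1 := hS.ind _ ⟨hsurj x hx, key x hxa⟩ _ ⟨hsurj y hy, key y hya⟩ _ (hz.act w⁻¹)
  apply h1.2
  rw [hza, rep_inv_apply]
  rfl

end Cfsg.Agent.H315.SR
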