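import Cfsg.Agent.H315.SR.Reg

/-!
# `E7(q)`, `q = 3 mod 4` (helper315, for S4971, TEAM SR)
-/

set_option autoImplicit false

namespace Cfsg.Agent.H315.SR

open Cfsg Cfsg.Lie Cfsg.Lie.ChevalleyDatum Cfsg.Agent.Nodes.RGDChev Cfsg.Agent.H721.SR

universe u

theorem hp7 : IsType chevE7 7 CoxeterMatrix.E₇ := by simp [IsType, typeList]

theorem even7 : ∀ i : ℕ, i < chevE7.rank →
    Even (∑ j ∈ ({1, 4, 6} : Finset (Fin 7)), chevE7.cartan i (chevE7.simple j)) := by
  have h : ∀ i < chevE7.rank, (∑ j ∈ ({1, 4, 6} : Finset (Fin 7)), chevE7.cartan i (chevE7.simple j)) % 2 = 0 := by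
    decide +kernel
  intro i hi
  exact Int.even_iff.2 (h i hi)

/-- `E7(q)`, `-1` not a square: a regular unipotent element is not real. -/
theorem nrel_e7_of_not_isSquare (K : Type u) [Field K] [Finite K] (hK : ¬ IsSquare (-1 : K)) :
    NRel ↥(chevE7.group K) := by
  obtain ⟨p, hp⟩ := CharP.exists K
  have : Fact p.Prime := ⟨CharP.char_is_prime K p⟩
  have := finite_W hp7 CoxeterMatrix.E₇.toCoxeterSystem
  exact nrel_regular hp7 CoxeterMatrix.E₇.toCoxeterSystem p {1, 4, 6} (by decide) even7 hK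

end Cfsg.Agent.H315.SR
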