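import Cfsg.Agent.H315.SR.Btwn
import Cfsg.Agent.H315.SR.E7Reg

/-!
# `E7(q)`, `q = 1 mod 8` (helper315, for S4971, TEAM SR)

`s` in the torus of order 4 with centralizer of type `A3 A3 A1`, `u` a product of root elements for a base of this
subsystem, one of the coordinates not a square: `s u` is not real.
-/

set_option autoImplicit false
set_option linter.unusedSectionVars false

namespace Cfsg.Agent.H315.SR

open CoxeterSystem Cfsg Cfsg.Lie Cfsg.Lie.ChevalleyDatum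
open Cfsg.Agent.ChevalleyStructure Cfsg.Agent.ChevalleyStructure.Elts Cfsg.Agent.ChevalleyStructure.CoxeterGeom
  Cfsg.Agent.ChevalleyStructure.CoxeterGeomTypes Cfsg.Agent.ChevalleyStructure.NPerm
  Cfsg.Agent.ChevalleyStructure.RootVec
open Cfsg.Agent.Tits.Roots Cfsg.Agent.Tits.Core Cfsg.Agent.Nodes Cfsg.Agent.Nodes.Reps Cfsg.Agent.Nodes.BNOf
  Cfsg.Agent.Nodes.RGDChev Cfsg.Agent.Nodes.Bruhat Cfsg.Agent.Nodes.Unique
open Cfsg.Agent.KFacts.RgdField Cfsg.Agent.KFacts.RgdChevCoord Cfsg.Agent.H129.TorusChar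
open Cfsg.Agent.H721.SR

universe u

/-! ### splitting a real element -/

/-- `s`, `u` commuting of coprime orders, `h` inverting `s u` inverts `s` and `u`. -/
theorem split_real {G : Type*} [Group G] {s u h : G} (hsu : s * u = u * s) {m n : ℕ} (hs : s ^ m = 1) (hu : u ^ n = 1)
    (hmn : m.Coprime n) (hh : h * (s * u) * h⁻¹ = (s * u)⁻¹) : h * s * h⁻¹ = s⁻¹ ∧ h * u * h⁻¹ = u⁻¹ := by
  have hc : Commute s u := hsu
  obtain ⟨a, ha1, ha2⟩ := Nat.chineseRemainder hmn 1 0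
  obtain ⟨b, hb1, hb2⟩ := Nat.chineseRemainder hmn 0 1
  have e1 : (s * u) ^ a = s := by
    rw [hc.mul_pow, (pow_eq_pow_iff_modEq (x := s)).2 (ha1.of_dvd (orderOf_dvd_of_pow_eq_one hs)),
      (pow_eq_pow_iff_modEq (x := u)).2 (ha2.of_dvd (orderOf_dvd_of_pow_eq_one hu)), pow_one, pow_zero, mul_one]
  have e2 : (s * u) ^ b = u := by
    rw [hc.mul_pow, (pow_eq_pow_iff_modEq (x := s)).2 (hb1.of_dvd (orderOf_dvd_of_pow_eq_one hs)),
      (pow_eq_pow_iff_modEq (x := u)).2 (hb2.of_dvd (orderOf_dvd_of_pow_eq_one hu)), pow_one, pow_zero, one_mul]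
  constructor
  · calc h * s * h⁻¹ = h * (s * u) ^ a * h⁻¹ := by rw [e1]
      _ = (h * (s * u) * h⁻¹) ^ a := (conj_pow).symm
      _ = s⁻¹ := by rw [hh, inv_pow, e1]
  · calc h * u * h⁻¹ = h * (s * u) ^ b * h⁻¹ := by rw [e2]
      _ = (h * (s * u) * h⁻¹) ^ b := (conj_pow).symm
      _ = u⁻¹ := by rw [hh, inv_pow, e2]

/-! ### representatives acting through signs -/

section

variable {D : ChevalleyDatum} {l : ℕ} {M : CoxeterMatrix (Fin l)} (hp : IsType D l M) {K : Type u} [Field K]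
  {W : Type*} [Group W] (cs : CoxeterSystem M W)

theorem nact_sign (i : Fin l) {a : Fin l → ℤ} (ha : IsRoot cs hp.isCartan a) : ∃ η : K, (η = 1 ∨ η = -1) ∧ ∀ c,
    nc hp K i * xc hp a c * (nc hp K i)⁻¹ = xc hp (rep cs hp.isCartan (cs.simple i) a) (η * c) := by
  obtain ⟨r, hr, rfl⟩ := (isRoot_iff hp cs a).1 ha
  rw [rep_vec hp cs i hr]
  obtain ⟨η, hη, h⟩ := Cfsg.Agent.S1031.result (F := K) D hp.inList i r (lt_rank hp i) hr
  refine ⟨(η : K), ?_, fun a => Subtype.ext ?_⟩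
  · rcases hη with rfl | rfl <;> simp
  · rw [Subgroup.coe_mul, Subgroup.coe_mul, Subgroup.coe_inv, coe_xc hp hr,
      coe_xc hp (reflectRoot_lt hp.inList (lt_rank hp i) hr)]
    show nG hp.inList (D.simple i) 1 * _ * (nG hp.inList (D.simple i) 1)⁻¹ = _
    rw [mul_inv_eq_iff_eq_mul]
    apply Units.ext
    rw [Units.val_mul, Units.val_mul, coe_nG, coe_xG, coe_xG]
    exact h a

theorem exists_rpsign (w : W) : ∃ n : ↥(D.group K), (∀ hN : NSys M (TT D K) (nc hp K), Rp cs hN w n) ∧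
    ∀ a, IsRoot cs hp.isCartan a → ∃ η : K, (η = 1 ∨ η = -1) ∧ ∀ c,
      n * xc hp a c * n⁻¹ = xc hp (rep cs hp.isCartan w a) (η * c) := by
  obtain ⟨ω, rfl⟩ := cs.wordProd_surjective w
  induction ω with
  | nil =>
    refine ⟨1, fun hN => by rw [wordProd_nil]; exact rp_one, fun a _ => ⟨1, Or.inl rfl, fun c => ?_⟩⟩
    rw [wordProd_nil, map_one, Module.End.one_apply, one_mul, one_mul, inv_one, mul_one]
  | cons i ω ih =>
    obtain ⟨n, hn, h1⟩ := ih
    refine ⟨nc hp K i * n, fun hN => ?_, fun a ha => ?_⟩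
    · rw [wordProd_cons]; exact (rp_simple cs hN i).mul (hn hN)
    · obtain ⟨η, hη, h2⟩ := h1 a ha
      obtain ⟨θ, hθ, h3⟩ := nact_sign (K := K) hp cs i (ha.act (cs.wordProd ω))
      refine ⟨θ * η, ?_, fun c => ?_⟩
      · rcases hη with rfl | rfl <;> rcases hθ with rfl | rfl <;> simp
      · rw [wordProd_cons, rep_mul_apply, mul_assoc θ, ← h3, ← h2]
        group

end

/-! ### the base -/

/-- the lowest root of `Ψ` involving `α_4` -/
def be : Fin 7 → ℤ := ![1, 2, 2, 4, 3, 2, 1]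

/-- the base of the subsystem `A3 A3 A1` -/
def pp (j : Fin 7) : Fin 7 → ℤ := if j = 3 then be else sr j

/-- the exponents -/
def mm : Fin 7 → ℕ := ![3, 2, 2, 1, 1, 2, 3]

theorem pp_three : pp 3 = be := if_pos rfl

theorem pp_ne {j : Fin 7} (hj : j ≠ 3) : pp j = sr j := if_neg hj

theorem pp_nonneg : ∀ j i, 0 ≤ pp j i := by decide +kernel

theorem pp_inj : Function.Injective pp := by
  have h : ∀ i j, pp i = pp j → i = j := by decide +kernel
  exact fun i j => h i j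

theorem sum_pp : ∀ i, ∑ j, (mm j : ℤ) * pp j i = 4 := by decide +kernel

theorem tab_be : ∃ r, r < chevE7.nroots ∧ ∀ i : Fin 7, rt chevE7 r i = be i := by decide +kernel

theorem tab_ge : ∀ r < chevE7.nroots, (∀ i : Fin 7, 0 ≤ rt chevE7 r i) → rt chevE7 r 3 % 4 = 0 →
    rt chevE7 r 3 = 0 ∨ (rt chevE7 r 3 = 4 ∧ ∀ i : Fin 7, be i ≤ rt chevE7 r i) := by decide +kernel

/-! ### the subsystem -/

section Main

variable {W : Type*} [Group W] (cs : CoxeterSystem CoxeterMatrix.E₇ W)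

theorem hc7 : IsCartan CoxeterMatrix.E₇ (cartanOf chevE7 7) := hp7.isCartan

/-- the positive roots of `Ψ` -/
def SS : Set (Fin 7 → ℤ) := {x | IsRoot cs hc7 x ∧ 0 ≤ x ∧ (4 : ℤ) ∣ x 3}

theorem SS_pos : SS cs ⊆ RGD.Pos cs hc7 := fun _ hx => ⟨hx.1, hx.2.1⟩

set_option backward.isDefEq.respectTransparency false in
theorem E7_ne_four : ∀ i j, CoxeterMatrix.E₇ i j ≠ 4 := by decide +kernel

set_option backward.isDefEq.respectTransparency false in
theorem E7_ne_six : ∀ i j, CoxeterMatrix.E₇ i j ≠ 6 := by decide +kernel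

theorem btwn_eq7 [Finite W] {x y z : Fin 7 → ℤ} (hx : x ∈ RGD.Pos cs hc7) (hy : y ∈ RGD.Pos cs hc7)
    (hz : Btwn cs hc7 x y z) : (x = y ∧ z = x) ∨ z = x + y := by
  by_cases hxy : x = y
  · subst hxy
    exact Or.inl ⟨rfl, btwn_self hx.1 hz⟩
  · exact Or.inr (btwn_eq E7_ne_four E7_ne_six hx.1 hy.1 hx.2 hy.2 hxy hz)

theorem SS_closed [Finite W] : Closed cs hc7 (SS cs) := by
  intro x hx y hy z hz
  rcases btwn_eq7 cs (SS_pos cs hx) (SS_pos cs hy) hz with ⟨-, rfl⟩ | h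
  · exact hx
  · refine ⟨hz.1, RGD.nonneg_of_btwn hx.2.1 hy.2.1 hz, ?_⟩
    rw [h]
    exact dvd_add hx.2.2 hy.2.2

theorem isRoot_be : IsRoot cs hc7 be := by
  obtain ⟨r, hr, h⟩ := tab_be
  have h1 : vec chevE7 7 r = be := funext fun i => h i
  rw [← h1]
  exact isRoot_vec hp7 cs hr

theorem isRoot_pp (j : Fin 7) : IsRoot cs hc7 (pp j) := by
  by_cases hj : j = 3
  · rw [hj, pp_three]; exact isRoot_be cs
  · rw [pp_ne hj]; exact isRoot_sr cs _ j

theorem pp_mem (j : Fin 7) : pp j ∈ SS cs := by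
  refine ⟨isRoot_pp cs j, pp_nonneg j, ?_⟩
  have h : ∀ j, (4 : ℤ) ∣ pp j 3 := by decide +kernel
  exact h j

theorem SS_cases {x : Fin 7 → ℤ} (hx : x ∈ SS cs) : x 3 = 0 ∨ (x 3 = 4 ∧ be ≤ x) := by
  obtain ⟨r, hr, rfl⟩ := (isRoot_iff hp7 cs x).1 hx.1
  have h1 := tab_ge r hr (fun i => hx.2.1 i) (Int.emod_eq_zero_of_dvd hx.2.2)
  rcases h1 with h1 | h1
  · exact Or.inl h1
  · exact Or.inr ⟨h1.1, fun i => h1.2 i⟩

theorem ind_pp [Finite W] (j : Fin 7) : Ind cs hc7 (SS cs) (pp j) := by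
  refine ⟨SS_pos cs, SS_closed cs, pp_mem cs j, ?_⟩
  rintro x ⟨hx, hxa⟩ y ⟨hy, hya⟩ z hz
  refine ⟨SS_closed cs x hx y hy z hz, fun hza => ?_⟩
  rw [Set.mem_singleton_iff] at hza hxa hya
  rcases btwn_eq7 cs (SS_pos cs hx) (SS_pos cs hy) hz with ⟨-, h⟩ | h
  · exact hxa (h.symm.trans hza)
  · by_cases hj : j = 3
    · rw [hj, pp_three] at hza
      -- `β = x + y`
      rw [hza] at h
      have h3 : x 3 + y 3 = 4 := by
        have := congrFun h 3
        rw [Pi.add_apply] at this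
        rw [← this]; rfl
      rcases SS_cases cs hx with h4 | ⟨-, h4⟩
      · rcases SS_cases cs hy with h5 | ⟨-, h5⟩
        · omega
        · refine hx.1.not_pos_neg hx.2.1 fun i => ?_
          have h6 := congrFun h i
          have h7 := h5 i
          rw [Pi.add_apply] at h6
          rw [Pi.zero_apply]
          linarith
      · refine hy.1.not_pos_neg hy.2.1 fun i => ?_
        have h6 := congrFun h i
        have h7 := h4 i
        rw [Pi.add_apply] at h6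
        rw [Pi.zero_apply]
        linarith
    · rw [pp_ne hj] at hza
      have h5 : y ≠ sr j := by rw [← pp_ne hj]; exact hya
      exact RGD.ne_sr_of_btwn hx.2.1 hy.1 hy.2.1 h5 hz hza

/-- an element making the base positive makes `Ψ⁺` positive -/
theorem rep_nonneg {w : W} (hw : ∀ j, 0 ≤ rep cs hc7 w (pp j)) {x : Fin 7 → ℤ} (hx : x ∈ SS cs) :
    0 ≤ rep cs hc7 w x := by
  have key : ∀ y : Fin 7 → ℤ, 0 ≤ y → y 3 = 0 → 0 ≤ rep cs hc7 w y := by
    intro y hy h3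
    rw [IsMC.eq_sum_sr y, map_sum]
    refine Finset.sum_nonneg fun j _ => ?_
    rw [map_zsmul]
    by_cases hj : j = 3
    · rw [hj, h3, zero_smul]
    · have h1 := hw j
      rw [pp_ne hj] at h1
      exact smul_nonneg (hy j) h1
  rcases SS_cases cs hx with h3 | ⟨h4, h3⟩
  · exact key x hx.2.1 h3
  · have h1 : x = be + (x - be) := by abel
    rw [h1, map_add]
    refine add_nonneg ?_ (key _ (sub_nonneg.2 h3) ?_)
    · have := hw 3
      rwa [pp_three] at this
    · rw [Pi.sub_apply, h4]; rfl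

/-! ### the permutation of the base -/

/-- the exponent of the image of the node `β` -/
theorem mm_image (π : Equiv.Perm (Fin 7)) {w : W} (hπ : ∀ j, rep cs hc7 w (pp j) = pp (π j))
    (h3 : (4 : ℤ) ∣ 1 + rep cs hc7 w 1 3) : mm (π 3) = 3 := by
  obtain ⟨x, hx⟩ : ∃ x, x = rep cs hc7 w (1 : Fin 7 → ℤ) := ⟨_, rfl⟩
  have h1 : ∀ i, 4 * x i = ∑ j, (mm j : ℤ) * pp (π j) i := by
    intro i
    have e1 : (4 : ℤ) • (1 : Fin 7 → ℤ) = ∑ j, (mm j : ℤ) • pp j := by
      funext i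
      rw [Finset.sum_apply, Pi.smul_apply, Pi.one_apply, smul_eq_mul, mul_one]
      simp only [Pi.smul_apply, smul_eq_mul]
      exact (sum_pp i).symm
    have e2 := congrArg (rep cs hc7 w) e1
    rw [map_zsmul, map_sum, ← hx] at e2
    have e3 := congrFun e2 i
    rw [Finset.sum_apply, Pi.smul_apply, smul_eq_mul] at e3
    rw [e3]
    refine Finset.sum_congr rfl fun j _ => ?_
    rw [map_zsmul, hπ, Pi.smul_apply, smul_eq_mul]
  have h2 : ∀ i, 4 * x i = ∑ b, (mm (π.symm b) : ℤ) * pp b i := by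
    intro i
    rw [h1 i, ← Equiv.sum_comp π fun b => (mm (π.symm b) : ℤ) * pp b i]
    refine Finset.sum_congr rfl fun j _ => ?_
    rw [Equiv.symm_apply_apply]
  -- the value of the sum
  have h4 : ∀ (f : Fin 7 → ℤ) (i : Fin 7), i ≠ 3 → ∑ b, f b * pp b i = f 3 * be i + f i := by
    intro f i hi
    have hb : ∀ b, f b * pp b i = (if b = 3 then f 3 * be i else 0) + (if b = i then f i else 0) := by
      intro b
      by_cases hb3 : b = 3
      · subst hb3
        rw [pp_three, if_pos rfl, if_neg (Ne.symm hi), add_zero]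
      · rw [pp_ne hb3, if_neg hb3, zero_add]
        by_cases hbi : b = i
        · subst hbi
          rw [if_pos rfl, sr_self, mul_one]
        · rw [if_neg hbi, sr_ne (Ne.symm hbi), mul_zero]
    rw [Finset.sum_congr rfl fun b _ => hb b, Finset.sum_add_distrib, Finset.sum_ite_eq' Finset.univ,
      Finset.sum_ite_eq' Finset.univ, if_pos (Finset.mem_univ _), if_pos (Finset.mem_univ _)]
  have h5 : ∀ (f : Fin 7 → ℤ), ∑ b, f b * pp b 3 = f 3 * 4 := by
    intro f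
    rw [Finset.sum_eq_single 3]
    · rw [pp_three]; rfl
    · intro b _ hb
      rw [pp_ne hb, sr_ne (Ne.symm hb), mul_zero]
    · intro h
      exact absurd (Finset.mem_univ _) h
  have h6 := h2 3
  rw [h5 fun b => (mm (π.symm b) : ℤ)] at h6
  rw [← hx] at h3
  have hm : ∀ b : Fin 7, (4 : ℤ) ∣ 1 + mm b → mm b = 3 ∧ b ≠ 3 := by decide +kernel
  have h7 := hm (π.symm 3) (by
    have : (x 3 : ℤ) = mm (π.symm 3) := by linarith
    rwa [this] at h3)
  have hne : π 3 ≠ 3 := by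
    intro h
    apply h7.2
    rw [Equiv.symm_apply_eq]
    exact h.symm
  have h8 := h2 (π 3)
  rw [h4 (fun b => (mm (π.symm b) : ℤ)) (π 3) hne, h7.1, Equiv.symm_apply_apply] at h8
  have hb : ∀ b : Fin 7, b ≠ 3 → (4 : ℤ) ∣ 3 * be b + 1 → mm b = 3 := by decide +kernel
  refine hb _ hne ⟨x (π 3), ?_⟩
  rw [h8]
  rfl

/-! ### the field -/

variable {K : Type u} [Field K]

/-- the arithmetic of the coordinates: `X` a character, `X (π j) η_j c_j = - c_{π j}`, `mm (π 3) = 3` -/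
theorem square_of_rel {ζ ν y : K} (hζ : ζ ^ 4 = -1) (hν : ν ≠ 0) (π : Equiv.Perm (Fin 7)) (hπ : mm (π 3) = 3)
    {X η : Fin 7 → K} (hη : ∀ j, η j = 1 ∨ η j = -1)
    (hX : ∀ j, X (π j) * (η j * (if j = 3 then ν else 1)) = -(if π j = 3 then ν else 1))
    (hy : ∏ b, X b ^ mm b = y ^ 4) : IsSquare ν := by
  have hζ0 : ζ ≠ 0 := by
    rintro rfl
    rw [zero_pow (by norm_num)] at hζ
    exact neg_ne_zero.2 one_ne_zero hζ.symm
  -- multiply everything
  have h1 : (∏ j, X (π j) ^ mm (π j)) * ((∏ j, η j ^ mm (π j)) * ∏ j, (if j = 3 then ν else 1) ^ mm (π j)) =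
      (∏ j, (-1 : K) ^ mm (π j)) * ∏ j, (if π j = 3 then ν else 1) ^ mm (π j) := by
    rw [← Finset.prod_mul_distrib, ← Finset.prod_mul_distrib, ← Finset.prod_mul_distrib]
    refine Finset.prod_congr rfl fun j _ => ?_
    rw [← mul_pow, ← mul_pow, hX, ← mul_pow, neg_one_mul]
  rw [Equiv.prod_comp π fun b => X b ^ mm b, Equiv.prod_comp π fun b => (if b = 3 then ν else 1) ^ mm b, hy] at h1
  have h2 : ∏ b, (if b = 3 then ν else 1) ^ mm b = ν := by
    rw [Finset.prod_eq_single 3]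
    · rw [if_pos rfl]; exact pow_one ν
    · intro b _ hb
      rw [if_neg hb, one_pow]
    · intro h; exact absurd (Finset.mem_univ _) h
  have h3 : ∏ j, (if j = 3 then ν else 1) ^ mm (π j) = ν ^ 3 := by
    rw [Finset.prod_eq_single 3]
    · rw [if_pos rfl, hπ]
    · intro b _ hb
      rw [if_neg hb, one_pow]
    · intro h; exact absurd (Finset.mem_univ _) h
  rw [h2, h3] at h1
  have hs : ∀ (f : Fin 7 → K), (∀ j, f j = 1 ∨ f j = -1) → (∏ j, f j = 1 ∨ ∏ j, f j = -1) := by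
    intro f hf
    refine Finset.prod_induction f (fun x => x = 1 ∨ x = -1) ?_ (Or.inl rfl) fun j _ => hf j
    rintro a b (rfl | rfl) (rfl | rfl) <;> simp
  have hpm : ∀ (x : K) (n : ℕ), (x = 1 ∨ x = -1) → (x ^ n = 1 ∨ x ^ n = -1) := by
    rintro x n (rfl | rfl)
    · left; exact one_pow n
    · exact neg_one_pow_eq_or K n
  have h4 := hs _ fun j => hpm (η j) (mm (π j)) (hη j)
  have h5 := hs _ fun j => hpm (-1 : K) (mm (π j)) (Or.inr rfl)
  -- `(ν y²)² = ± 1`
  have hpos : IsSquare (-1 : K) := ⟨ζ ^ 2, by rw [← hζ]; ring⟩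
  have h6 : (ν * y ^ 2) ^ 2 = 1 ∨ (ν * y ^ 2) ^ 2 = -1 := by
    rcases h4 with h4 | h4 <;> rcases h5 with h5 | h5 <;> rw [h4, h5] at h1
    · left
      have : ν * ((ν * y ^ 2) ^ 2) = ν * 1 := by linear_combination h1
      exact mul_left_cancel₀ hν this
    · right
      have : ν * ((ν * y ^ 2) ^ 2) = ν * -1 := by linear_combination h1
      exact mul_left_cancel₀ hν this
    · right
      have : ν * ((ν * y ^ 2) ^ 2) = ν * -1 := by linear_combination -h1
      exact mul_left_cancel₀ hν this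
    · left
      have : ν * ((ν * y ^ 2) ^ 2) = ν * 1 := by linear_combination -h1
      exact mul_left_cancel₀ hν this
  have h7 : IsSquare (ν * y ^ 2) := by
    rcases h6 with h6 | h6
    · rcases sq_eq_one_iff.1 h6 with h | h
      · rw [h]; exact ⟨1, (one_mul 1).symm⟩
      · rw [h]; exact hpos
    · -- `(ν y²)² = (ζ²)²`
      have h8 : (ν * y ^ 2) ^ 2 = (ζ ^ 2) ^ 2 := by rw [h6, ← hζ]; ring
      rcases sq_eq_sq_iff_eq_or_eq_neg.1 h8 with h | h
      · rw [h]; exact ⟨ζ, by ring⟩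
      · rw [h]
        exact ⟨ζ ^ 3, by linear_combination (-ζ ^ 2) * hζ⟩
  have hy0 : y ≠ 0 := by
    rintro rfl
    rw [zero_pow (by norm_num : (2 : ℕ) ≠ 0), mul_zero, zero_pow (by norm_num : (2 : ℕ) ≠ 0)] at h6
    rcases h6 with h6 | h6
    · exact zero_ne_one h6
    · exact neg_ne_zero.2 one_ne_zero h6.symm
  obtain ⟨r, hr⟩ := h7
  refine ⟨r / y, ?_⟩
  field_simp
  rw [hr]; ring

/-! ### the theorem -/

/-- the coordinates -/
noncomputable def cz (ν : K) (z : Fin 7 → ℤ) : K := if z = be then ν else 1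

theorem cz_pp (ν : K) (j : Fin 7) : cz ν (pp j) = if j = 3 then ν else 1 := by
  unfold cz
  by_cases hj : j = 3
  · rw [hj, pp_three, if_pos rfl, if_pos rfl]
  · rw [if_neg hj, if_neg]
    intro h
    rw [← pp_three] at h
    exact hj (pp_inj h)

theorem locFin_of_finite [Finite K] : BpExc.TowChev.LocFin K := fun _ _ => ⟨⊤, inferInstance, fun _ _ => trivial⟩

include cs in
/-- **`E7(q)`, `q = 1 mod 8`** -/
theorem nrel_e7_eight' [Finite W] [Finite K] {ζ : K} (hζ : IsPrimitiveRoot ζ 8) : NRel ↥(chevE7.group K) := by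
  classical
  obtain ⟨p, hpK⟩ := CharP.exists K
  have hpf : Fact p.Prime := ⟨CharP.char_is_prime K p⟩
  have R := rgd (K := K) hp7 cs p
  have hζ0 : ζ ≠ 0 := hζ.ne_zero (by norm_num)
  -- `i = ζ²` is a primitive fourth root of one
  have hi : IsPrimitiveRoot (ζ ^ 2) 4 := hζ.pow (by norm_num) (by norm_num)
  have hζ4 : ζ ^ 4 = -1 := by
    have h1 : (ζ ^ 4) ^ 2 = 1 := by rw [← pow_mul]; exact hζ.pow_eq_one
    rcases sq_eq_one_iff.1 h1 with h | h
    · exact absurd h (hζ.pow_ne_one_of_pos_of_lt (by norm_num) (by norm_num))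
    · exact h
  have h2K : (2 : K) ≠ 0 := by
    intro h2
    apply hζ.pow_ne_one_of_pos_of_lt (l := 4) (by norm_num) (by norm_num)
    rw [hζ4]
    have h3 : (1 : K) + 1 = 0 := by rw [one_add_one_eq_two]; exact h2
    exact neg_eq_of_add_eq_zero_left h3
  have hp2 : p ≠ 2 := by
    rintro rfl
    exact h2K (by exact_mod_cast CharP.cast_eq_zero K 2)
  -- a non-square
  obtain ⟨ν, hν⟩ : ∃ ν : K, ¬ IsSquare ν := by
    have : Fintype K := Fintype.ofFinite K
    refine FiniteField.exists_nonsquare ?_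
    rw [ringChar.eq K p]
    exact hp2
  have hν0 : ν ≠ 0 := by
    rintro rfl
    exact hν ⟨0, (mul_zero 0).symm⟩
  -- the torus element
  have hφ : IsMC (fun x : Fin 7 → ℤ => (ζ ^ 2) ^ x 3) :=
    { zero := by rw [Pi.zero_apply, zpow_zero]
      add := fun x y => by rw [Pi.add_apply, zpow_add₀ (pow_ne_zero 2 hζ0)] }
  obtain ⟨s, hs, hcs⟩ := exists_cX hp7 invC_E7 (by norm_num) hφ fun i => by
    by_cases h : i = 3
    · exact ⟨ζ, by rw [h, sr_self, zpow_one]⟩
    · exact ⟨1, by rw [sr_ne (Ne.symm h), zpow_zero, one_pow]⟩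
  have hs4 : s ^ 4 = 1 := by
    refine cX_inj hp7 (pow_mem hs 4) (one_mem _) fun i => ?_
    rw [cX_pow hp7 hs, hcs, cX_one, ← zpow_natCast, ← zpow_mul]
    refine (hi.zpow_eq_one_iff_dvd _).2 ?_
    exact Dvd.intro_left _ rfl
  have hchs : ∀ a, IsRoot cs hc7 a → (ch hp7 a s = 1 ↔ (4 : ℤ) ∣ a 3) := by
    intro a ha
    rw [← cX_root hp7 cs hs ha, hcs]
    exact hi.zpow_eq_one_iff_dvd _
  have C := coords (K := K) hp7 cs p
  have hcent : RGD.Sup (fun x => XX chevE7 7 K x ⊓ Subgroup.centralizer {s}) (RGD.Pos cs hc7) ≤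
      RGD.Sup (XX chevE7 7 K) (SS cs) := by
    refine RGD.Sup_le fun a ha y hy => ?_
    obtain ⟨c, rfl⟩ := ((C.coord a ha.1).mem _).1 hy.1
    have h1 := Subgroup.mem_centralizer_singleton_iff.1 hy.2
    have h2 : s * xc hp7 a c * s⁻¹ = xc hp7 a c := by rw [← h1]; group
    rw [(C.coord a ha.1).act s hs] at h2
    have h3 := (C.coord a ha.1).inj h2
    by_cases hc0 : c = 0
    · rw [hc0, (C.coord a ha.1).zero]
      exact one_mem _
    · have h4 : ch hp7 a s = 1 := mul_right_cancel₀ hc0 (by rw [h3, one_mul])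
      exact RGD.le_Sup (S := SS cs) ⟨ha.1, ha.2, (hchs a ha.1).1 h4⟩ hy.1
  -- the unipotent element
  set f : (Fin 7 → ℤ) → ↥(chevE7.group K) := fun z => xc hp7 z (cz ν z) with hf
  have hfm : ∀ z, IsRoot cs hc7 z → f z ∈ XX chevE7 7 K z := fun z hz => xc_mem hp7 cs p hz _
  set L : List (Fin 7 → ℤ) := (List.finRange 7).map pp with hL
  have hLn : L.Nodup := (List.nodup_finRange 7).map pp_inj
  have hLm : ∀ z, z ∈ L ↔ ∃ j, pp j = z := fun z => by simp [hL]
  have hLS : ∀ z ∈ L, z ∈ SS cs := by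
    intro z hz
    obtain ⟨j, rfl⟩ := (hLm z).1 hz
    exact pp_mem cs j
  set u := (L.map f).prod with hu
  have hcmp : ∀ a, Ind cs hc7 (SS cs) a → (a ∈ L → Cmp (XX chevE7 7 K) (SS cs) a (f a) u) ∧
      (a ∉ L → Cmp (XX chevE7 7 K) (SS cs) a 1 u) := fun a ha => cmp_prod R ha f hfm L hLn hLS
  have huS : u ∈ RGD.Sup (XX chevE7 7 K) (SS cs) :=
    Cmp.mem R (ind_pp cs 0) ((hcmp _ (ind_pp cs 0)).1 ((hLm _).2 ⟨0, rfl⟩))
  have hsu : s * u = u * s := by
    have h1 : u ∈ Subgroup.centralizer {s} := by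
      refine Subgroup.list_prod_mem _ fun y hy => ?_
      obtain ⟨z, hz, rfl⟩ := List.mem_map.1 hy
      have hzS := hLS z hz
      rw [Subgroup.mem_centralizer_singleton_iff]
      have h2 := (C.coord z hzS.1).act s hs (cz ν z)
      rw [(hchs z hzS.1).2 hzS.2.2, one_mul] at h2
      show xc hp7 z (cz ν z) * s = s * xc hp7 z (cz ν z)
      conv_lhs => rw [← h2]
      group
    exact (Subgroup.mem_centralizer_singleton_iff.1 h1).symm
  obtain ⟨e, he⟩ : ∃ e, u ^ p ^ e = 1 := by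
    obtain ⟨e, he⟩ := R.isPGroup_Upos ⟨u, RGD.Sup_mono (SS_pos cs) huS⟩
    exact ⟨e, congrArg Subtype.val he⟩
  refine ⟨s * u, fun hc => ?_⟩
  obtain ⟨c, hc⟩ := isConj_iff.1 hc
  obtain ⟨hc1, hc2⟩ := split_real hsu hs4 he (Nat.Coprime.pow_right e (by
    have h1 : (4 : ℕ) = 2 ^ 2 := by norm_num
    rw [h1]
    exact Nat.Coprime.pow_left 2 ((Nat.coprime_primes Nat.prime_two hpf.out).2 (Ne.symm hp2)))) hc
  have hcinv : RGD.Sup (fun x => XX chevE7 7 K x ⊓ Subgroup.centralizer {s⁻¹}) (RGD.Pos cs hc7) ≤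
      RGD.Sup (XX chevE7 7 K) (SS cs) := by
    refine le_trans (RGD.Sup_le fun a ha => ?_) hcent
    refine le_trans ?_ (RGD.le_Sup (X := fun x => XX chevE7 7 K x ⊓ Subgroup.centralizer {s}) ha)
    refine inf_le_inf_left _ fun y hy => ?_
    have h1 := Subgroup.mem_centralizer_singleton_iff.1 hy
    rw [Subgroup.mem_centralizer_singleton_iff]
    calc y * s = s * (s⁻¹ * y) * s := by group
      _ = s * (y * s⁻¹) * s := by rw [h1]
      _ = s * y := by group
  obtain ⟨w, k, hk, hks, -, h1, h2⟩ := bruhat_form R (S := SS cs) (SS_pos cs) (SS_closed cs) hs (inv_mem hs) hcent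
    hcinv (c := c) (u := u) (u' := u⁻¹) (by rw [GG_top hp7 cs]; trivial) (by rw [← hc1]; group) huS (inv_mem huS)
    (by rw [← hc2]; group)
  have hfne : ∀ j, f (pp j) ≠ 1 := by
    intro j
    refine (C.coord _ (isRoot_pp cs j)).ne_one ?_
    rw [cz_pp]
    split_ifs
    · exact hν0
    · exact one_ne_zero
  have hw0 : ∀ j, 0 ≤ rep cs hc7 w (pp j) := by
    intro j
    refine h1 _ (ind_pp cs j) (XX_comm hp7 cs p (isRoot_pp cs j)) fun h3 => ?_
    exact hfne j (Cmp.unique R (ind_pp cs j) ((hcmp _ (ind_pp cs j)).1 ((hLm _).2 ⟨j, rfl⟩)) h3)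
  -- `w` acts on the lattice modulo `4`
  have hw4 : ∀ x : Fin 7 → ℤ, (4 : ℤ) ∣ x 3 + rep cs hc7 w x 3 := by
    intro x
    have h3 := cX_rp hp7 cs locFin_of_finite p hk hs x
    have h4 : k * s * k⁻¹ = s⁻¹ := by rw [hks]; group
    have h5 : ∀ y, cX hp7 s⁻¹ y * cX hp7 s y = 1 := by
      intro y
      rw [← cX_mul hp7 (inv_mem hs) hs, inv_mul_cancel, cX_one]
    have h6 := h5 (rep cs hc7 w x)
    rw [h4] at h3
    rw [h3, hcs, hcs, ← zpow_add₀ (pow_ne_zero 2 hζ0)] at h6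
    exact (hi.zpow_eq_one_iff_dvd _).1 h6
  have hwS : ∀ a ∈ SS cs, rep cs hc7 w a ∈ SS cs := by
    intro a ha
    refine ⟨ha.1.act w, rep_nonneg cs hw0 ha, ?_⟩
    exact (dvd_add_right ha.2.2).1 (hw4 a)
  have hfin : (SS cs).Finite := finite_pos.subset (SS_pos cs)
  -- the permutation
  have hperm : ∀ j, ∃ j', rep cs hc7 w (pp j) = pp j' ∧ k * f (pp j) * k⁻¹ = (f (pp j'))⁻¹ := by
    intro j
    have hI := (ind_pp cs j).act hfin hwS
    have hc3 := (hcmp _ (ind_pp cs j)).1 ((hLm _).2 ⟨j, rfl⟩)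
    have hco := XX_comm (K := K) hp7 cs p (isRoot_pp cs j)
    have hco' := XX_comm (K := K) hp7 cs p (hI.pos hI.mem).1
    by_cases hL' : rep cs hc7 w (pp j) ∈ L
    · obtain ⟨j', hj'⟩ := (hLm _).1 hL'
      refine ⟨j', hj'.symm, ?_⟩
      have h3 := h2 hwS _ (ind_pp cs j) hI hco hco' _ _ hc3 (Cmp.inv R hI ((hcmp _ hI).1 hL'))
      rw [h3, hj']
    · exfalso
      have h3 := h2 hwS _ (ind_pp cs j) hI hco hco' _ _ hc3 (Cmp.inv R hI ((hcmp _ hI).2 hL'))
      apply hfne j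
      rw [inv_one] at h3
      exact conj_eq_one_iff.1 h3
  choose π hπ1 hπ2 using hperm
  have hπinj : Function.Injective π := by
    intro i j hij
    apply pp_inj
    have h3 : rep cs hc7 w (pp i) = rep cs hc7 w (pp j) := by rw [hπ1, hπ1, hij]
    have h6 := congrArg (rep cs hc7 w⁻¹) h3
    rwa [rep_inv_apply, rep_inv_apply] at h6
  set σ : Equiv.Perm (Fin 7) := Equiv.ofBijective π (Finite.injective_iff_bijective.1 hπinj) with hσ
  have hmm := mm_image cs σ hπ1 (hw4 1)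
  -- the torus part
  obtain ⟨n, hn, hη⟩ := exists_rpsign (K := K) hp7 cs w
  obtain ⟨t, ht⟩ : ∃ t, t = k * n⁻¹ := ⟨_, rfl⟩
  have htT : t ∈ TT chevE7 K := by
    have h3 := hk.mul (hn R.nsys).inv
    rw [mul_inv_cancel] at h3
    rw [ht]
    exact h3.mem_of_one
  have hη' : ∀ j, ∃ η : K, (η = 1 ∨ η = -1) ∧ ∀ c, n * xc hp7 (pp j) c * n⁻¹ = xc hp7 (pp (π j)) (η * c) := by
    intro j
    obtain ⟨η, h3, h4⟩ := hη _ (isRoot_pp cs j)
    exact ⟨η, h3, fun c => by rw [h4, hπ1]⟩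
  choose η hη1 hη2 using hη'
  refine hν (square_of_rel (ζ := ζ) (y := cX hp7 t 1) hζ4 hν0 σ hmm (X := fun b => cX hp7 t (pp b)) hη1 ?_ ?_)
  · intro j
    have h3 := hπ2 j
    have hr := isRoot_pp cs (π j)
    change k * xc hp7 (pp j) (cz ν (pp j)) * k⁻¹ = (xc hp7 (pp (π j)) (cz ν (pp (π j))))⁻¹ at h3
    rw [xc_neg hp7 cs p hr, cz_pp, cz_pp] at h3
    have h4 : k = t * n := by rw [ht]; group
    have h5 : k * xc hp7 (pp j) (if j = 3 then ν else 1) * k⁻¹ =
        t * (n * xc hp7 (pp j) (if j = 3 then ν else 1) * n⁻¹) * t⁻¹ := by rw [h4]; group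
    rw [h5, hη2, (C.coord _ hr).act t htT] at h3
    have h6 := (C.coord _ hr).inj h3
    show cX hp7 t (pp (π j)) * (η j * _) = -(if π j = 3 then ν else 1)
    rw [cX_root hp7 cs htT hr]
    exact h6
  · have hMC := isMC_cX hp7 htT
    have h3 : (4 : ℤ) • (1 : Fin 7 → ℤ) = ∑ j, (mm j : ℤ) • pp j := by
      funext i
      rw [Finset.sum_apply, Pi.smul_apply, Pi.one_apply, smul_eq_mul, mul_one]
      simp only [Pi.smul_apply, smul_eq_mul]
      exact (sum_pp i).symm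
    have h4 := hMC.zsmul 4 1
    rw [h3, hMC.sum_smul] at h4
    simp only [zpow_natCast] at h4
    rw [h4]
    exact zpow_natCast _ 4

end Main

/-- **`E7(q)`, `q = 1 mod 8`** -/
theorem nrel_e7_eight (K : Type u) [Field K] [Finite K] {ζ : K} (hζ : IsPrimitiveRoot ζ 8) :
    NRel ↥(chevE7.group K) := by
  have := finite_W hp7 CoxeterMatrix.E₇.toCoxeterSystem
  exact nrel_e7_eight' CoxeterMatrix.E₇.toCoxeterSystem hζ

end Cfsg.Agent.H315.SR
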