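import Cfsg.Agent.BpExc.Tow
import Cfsg.Agent.Nodes.CardSup
import Cfsg.Agent.Nodes.SimplyLaced

/-!
# The Bruhat lemma for `s u` (helper315, for S4971, TEAM SR)

`R : RGD cs h p T n X` a finite root group datum, `S` a closed set of positive roots.

* `Cmp S a x g` : the `a`-component of `g ∈ Sup X S` is `x ∈ X a` (`a` indecomposable in `S`), with `exists`, `unique`,
  `mul`, `inv`, `conj`;
* `bruhat_form` : `c s = t c`, `s, t ∈ T`, `c u = u' c`, `u, u' ∈ Sup X S` where `Sup X S` contains `C_U(s)` and `C_U(t)`: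
  `c = u1 k u2`, `k` over `w`, `k s = t k`, `w a ≥ 0` for every indecomposable `a` with non-trivial component in `u`, and
  `k x k⁻¹ = x'` for the `a`-component `x` of `u` and the `w a`-component `x'` of `u'` if `w S = S`.
-/

set_option autoImplicit false
set_option linter.unusedSectionVars false

namespace Cfsg.Agent.H315.SR

open CoxeterSystem Cfsg.Agent.ChevalleyStructure.CoxeterGeom Cfsg.Agent.Tits.Roots Cfsg.Agent.Tits.Core
  Cfsg.Agent.Tits.RootComb Cfsg.Agent.Tits.Exchange Cfsg.Agent.Nodes.Reps Cfsg.Agent.Nodes.BNOf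
  Cfsg.Agent.Nodes.StabComb Cfsg.Agent.Nodes.Bruhat Cfsg.Agent.Nodes.OppDec Cfsg.Agent.Nodes.LeviDec
  Cfsg.Agent.Nodes.NormalForm Cfsg.Agent.BpExc.Tow Cfsg.Agent.Nodes.Unique

variable {I W Y : Type*} [Fintype I] [DecidableEq I] [Group W] [Group Y] {M : CoxeterMatrix I}
  {cs : CoxeterSystem M W} {A : I → I → ℤ} {h : IsCartan M A} {p : ℕ} {T : Subgroup Y} {n : I → Y}
  {X : (I → ℤ) → Subgroup Y}

/-- the `a`-component of `g` is `x` -/
def Cmp (X : (I → ℤ) → Subgroup Y) (S : Set (I → ℤ)) (a : I → ℤ) (x g : Y) : Prop :=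
  x ∈ X a ∧ x⁻¹ * g ∈ RGD.Sup X (S \ {a})

/-- a closed set of positive roots with an indecomposable element -/
structure Ind (cs : CoxeterSystem M W) (h : IsCartan M A) (S : Set (I → ℤ)) (a : I → ℤ) : Prop where
  pos : S ⊆ RGD.Pos cs h
  closed : Closed cs h S
  mem : a ∈ S
  ind : Closed cs h (S \ {a})

section

variable (R : RGD cs h p T n X) {S : Set (I → ℤ)} {a : I → ℤ} (hS : Ind cs h S a)

include R hS

theorem le_normalizer_diff : RGD.Sup X S ≤ Subgroup.normalizer (RGD.Sup X (S \ {a}) : Set Y) := by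
  refine RGD.Sup_le fun z hz => ?_
  by_cases hza : z = a
  · subst hza
    exact normalizer_peel R hS.pos hS.closed hS.mem
  · exact (RGD.le_Sup (S := S \ {a}) ⟨hz, hza⟩).trans Subgroup.le_normalizer

theorem Cmp.mem {x g : Y} (hx : Cmp X S a x g) : g ∈ RGD.Sup X S := by
  have h1 : g = x * (x⁻¹ * g) := by group
  rw [h1]
  exact mul_mem (RGD.le_Sup hS.mem hx.1) (RGD.Sup_mono Set.sdiff_subset hx.2)

theorem Cmp.exists {g : Y} (hg : g ∈ RGD.Sup X S) : ∃ x, Cmp X S a x g := by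
  obtain ⟨x, hx, b, hb, rfl⟩ := (mem_peel R hS.pos hS.closed hS.mem).1 hg
  exact ⟨x, hx, by rw [inv_mul_cancel_left]; exact hb⟩

theorem inf_diff [Finite W] {x : Y} (hx : x ∈ X a) (hx' : x ∈ RGD.Sup X (S \ {a})) : x = 1 := by
  have h1 := inf_eq R (S := {a}) (S' := S \ {a}) (Set.singleton_subset_iff.2 (hS.pos hS.mem))
    (Set.sdiff_subset.trans hS.pos) ?_ hS.ind
  · have h2 : x ∈ RGD.Sup X {a} ⊓ RGD.Sup X (S \ {a}) := ⟨RGD.le_Sup (S := {a}) rfl hx, hx'⟩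
    rw [h1] at h2
    have h3 : ({a} : Set (I → ℤ)) ∩ (S \ {a}) = ∅ := by
      ext z
      simp only [Set.mem_inter_iff, Set.mem_singleton_iff, Set.mem_sdiff, Set.mem_empty_iff_false, iff_false]
      rintro ⟨rfl, -, h⟩
      exact h rfl
    rw [h3, Sup_empty, Subgroup.mem_bot] at h2
    exact h2
  · rintro x rfl y hy z hz
    rw [Set.mem_singleton_iff] at hy
    subst hy
    exact btwn_self (hS.pos hS.mem).1 hz

theorem Cmp.unique [Finite W] {x x' g : Y} (h1 : Cmp X S a x g) (h2 : Cmp X S a x' g) : x = x' := by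
  have h3 : x'⁻¹ * x ∈ RGD.Sup X (S \ {a}) := by
    have : x'⁻¹ * x = (x'⁻¹ * g) * (x⁻¹ * g)⁻¹ := by group
    rw [this]
    exact mul_mem h2.2 (inv_mem h1.2)
  exact (inv_mul_eq_one.1 (inf_diff R hS (mul_mem (inv_mem h2.1) h1.1) h3)).symm

theorem Cmp.mul {x x' g g' : Y} (h1 : Cmp X S a x g) (h2 : Cmp X S a x' g') : Cmp X S a (x * x') (g * g') := by
  refine ⟨mul_mem h1.1 h2.1, ?_⟩
  have h3 : (x * x')⁻¹ * (g * g') = (x'⁻¹ * g') * (g'⁻¹ * (x⁻¹ * g) * g') := by group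
  rw [h3]
  refine mul_mem h2.2 ?_
  have h4 := le_normalizer_diff R hS (inv_mem (Cmp.mem R hS h2))
  have h5 := (Subgroup.mem_normalizer_iff.1 h4 (x⁻¹ * g)).1 h1.2
  rwa [inv_inv] at h5

theorem Cmp.inv {x g : Y} (h1 : Cmp X S a x g) : Cmp X S a x⁻¹ g⁻¹ := by
  refine ⟨inv_mem h1.1, ?_⟩
  have h3 : x⁻¹⁻¹ * g⁻¹ = x * (x⁻¹ * g)⁻¹ * x⁻¹ := by group
  rw [h3]
  exact (Subgroup.mem_normalizer_iff.1 (le_normalizer_diff R hS (RGD.le_Sup hS.mem h1.1)) _).1 (inv_mem h1.2)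

omit R hS in
theorem Cmp.one : Cmp X S a 1 1 := ⟨one_mem _, by rw [inv_one, mul_one]; exact one_mem _⟩

omit R hS in
theorem Cmp.self {x : Y} (hx : x ∈ X a) : Cmp X S a x x := ⟨hx, by rw [inv_mul_cancel]; exact one_mem _⟩

omit R hS in
theorem Cmp.of_ne {z : I → ℤ} (hz : z ∈ S) (hza : z ≠ a) {g : Y} (hg : g ∈ X z) : Cmp X S a 1 g :=
  ⟨one_mem _, by rw [inv_one, one_mul]; exact RGD.le_Sup (S := S \ {a}) ⟨hz, hza⟩ hg⟩

/-- conjugation does not change the component if `X a` is commutative -/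
theorem Cmp.conj (hab : ∀ x ∈ X a, ∀ y ∈ X a, x * y = y * x) {x g v : Y} (h1 : Cmp X S a x g)
    (hv : v ∈ RGD.Sup X S) : Cmp X S a x (v * g * v⁻¹) := by
  obtain ⟨y, hy⟩ := Cmp.exists R hS hv
  have h2 := Cmp.mul R hS (Cmp.mul R hS hy h1) (Cmp.inv R hS hy)
  have h3 : y * x * y⁻¹ = x := by rw [hab y hy.1 x h1.1]; group
  rwa [h3] at h2

end

section

variable (R : RGD cs h p T n X)

include R

/-- **The Bruhat lemma.** -/
theorem bruhat_form [Finite W] {S : Set (I → ℤ)} (hS : S ⊆ RGD.Pos cs h) (hSc : Closed cs h S) {s t : Y} (hs : s ∈ T)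
    (ht : t ∈ T) (hSs : RGD.Sup (fun x => X x ⊓ Subgroup.centralizer {s}) (RGD.Pos cs h) ≤ RGD.Sup X S)
    (hSt : RGD.Sup (fun x => X x ⊓ Subgroup.centralizer {t}) (RGD.Pos cs h) ≤ RGD.Sup X S)
    {c u u' : Y} (hc : c ∈ GG cs h T X) (e : c * s = t * c) (hu : u ∈ RGD.Sup X S) (hu' : u' ∈ RGD.Sup X S)
    (e' : c * u = u' * c) :
    ∃ w k, Rp cs R.nsys w k ∧ k * s = t * k ∧
      (∃ u₁ ∈ RGD.Sup X S, ∃ u₂ ∈ RGD.Sup X S, c = u₁ * k * u₂) ∧
      (∀ a, Ind cs h S a → (∀ x ∈ X a, ∀ y ∈ X a, x * y = y * x) → (¬ Cmp X S a 1 u) → 0 ≤ rep cs h w a) ∧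
      ((∀ a ∈ S, rep cs h w a ∈ S) → ∀ a, Ind cs h S a → Ind cs h S (rep cs h w a) →
        (∀ x ∈ X a, ∀ y ∈ X a, x * y = y * x) →
        (∀ x ∈ X (rep cs h w a), ∀ y ∈ X (rep cs h w a), x * y = y * x) →
        ∀ x x', Cmp X S a x u → Cmp X S (rep cs h w a) x' u' → k * x * k⁻¹ = x') := by
  obtain ⟨u₁, hu₁, w, k, hk, hks, u₂, hu₂, rfl⟩ := conj_form R hs ht hc e
  have h1 := hSt hu₁
  have h2 := hSs hu₂
  -- `y = u₂ u u₂⁻¹`
  obtain ⟨y, hy⟩ : ∃ y, y = u₂ * u * u₂⁻¹ := ⟨_, rfl⟩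
  have hyS : y ∈ RGD.Sup X S := by rw [hy]; exact mul_mem (mul_mem h2 hu) (inv_mem h2)
  have hky : k * y * k⁻¹ = u₁⁻¹ * u' * u₁ := by
    rw [hy]
    have h3 : u' = u₁ * k * u₂ * u * (u₁ * k * u₂)⁻¹ := by rw [e']; group
    rw [h3]; group
  have hkyS : k * y * k⁻¹ ∈ RGD.Sup X S := by
    rw [hky]; exact mul_mem (mul_mem (inv_mem h1) hu') h1
  have hyU : y ∈ RGD.Sup X (RGD.Pos cs h) := RGD.Sup_mono hS hyS
  have hyP : y ∈ RGD.Sup X (PW cs h w) := by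
    have h3 := mem_PW_of_conj R hk.inv hyU (by
      rw [inv_inv]
      exact RGD.U_le_B (RGD.Sup_mono hS hkyS))
    rwa [inv_inv] at h3
  have hyPS : y ∈ RGD.Sup X (PW cs h w ∩ S) := by
    have h3 := inf_eq R (S := PW cs h w) (S' := S) (fun x hx => ⟨hx.1, hx.2.1⟩) hS ?_ hSc
    · rw [← h3]; exact ⟨hyP, hyS⟩
    · intro x hx y hy z hz
      exact ⟨hz.1, RGD.nonneg_of_btwn hx.2.1 hy.2.1 hz, RGD.nonneg_of_btwn hx.2.2 hy.2.2 (hz.act w)⟩
  refine ⟨w, k, hk, hks, ⟨u₁, h1, u₂, h2, rfl⟩, ?_, ?_⟩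
  · intro a ha hab hne
    by_contra hcon
    apply hne
    obtain ⟨x, hx⟩ := Cmp.exists R ha hu
    have hxy : Cmp X S a x y := by rw [hy]; exact Cmp.conj R ha hab hx h2
    have h3 : Cmp X S a 1 y := by
      refine ⟨one_mem _, ?_⟩
      rw [inv_one, one_mul]
      refine RGD.Sup_mono (S := PW cs h w ∩ S) (S' := S \ {a}) ?_ hyPS
      rintro z ⟨hz1, hz2⟩
      refine ⟨hz2, ?_⟩
      rintro rfl
      exact hcon hz1.2.2
    rw [← Cmp.unique R ha hxy h3]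
    exact hx
  · intro hwS a ha hwa hab hab' x x' hx hx'
    have hxy : Cmp X S a x y := by rw [hy]; exact Cmp.conj R ha hab hx h2
    have h3 : Cmp X S (rep cs h w a) (k * x * k⁻¹) (k * y * k⁻¹) := by
      refine ⟨R.conj_mem hk (hS ha.mem).1 hxy.1, ?_⟩
      have h4 : (k * x * k⁻¹)⁻¹ * (k * y * k⁻¹) = k * (x⁻¹ * y) * k⁻¹ := by group
      rw [h4]
      refine conj_mem_Sup R hk (S := S \ {a}) (S' := S \ {rep cs h w a}) (fun z hz => (hS hz.1).1) ?_ hxy.2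
      rintro z ⟨hz, hza⟩
      refine ⟨hwS z hz, ?_⟩
      intro h5
      apply hza
      rw [Set.mem_singleton_iff] at h5 ⊢
      have h6 := congrArg (rep cs h w⁻¹) h5
      rwa [rep_inv_apply, rep_inv_apply] at h6
    have h5 : Cmp X S (rep cs h w a) x' (k * y * k⁻¹) := by
      rw [hky]
      have h6 := Cmp.conj R hwa hab' hx' (inv_mem h1)
      rwa [inv_inv] at h6
    exact Cmp.unique R hwa h3 h5

end

end Cfsg.Agent.H315.SR
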