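import Cfsg.Agent.H315.SR.GX
import Cfsg.Agent.H129.TorusChar
import Cfsg.Agent.H721.SR.Base

/-!
# Regular unipotent elements which are not real (helper315, for S4971, TEAM SR)

* `Setup` lemmas for the root group datum of `D.group K`, `K` a finite field;
* `exists_rpsign` : a representative of `w` acting on the root elements through signs;
* `nrel_regular` : if `-1` is not a square in `K` and `J` is a set of an odd number of nodes with
  `∑ j ∈ J, ⟨α_j, α_i^∨⟩` even for every `i`, a regular unipotent element of `D.group K` is not real (`E7`: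
  `J = {2, 5, 7}`).
-/

set_option autoImplicit false
set_option linter.unusedSectionVars false

namespace Cfsg.Agent.H315.SR

open CoxeterSystem Cfsg Cfsg.Lie Cfsg.Lie.ChevalleyDatum
open Cfsg.Agent.ChevalleyStructure Cfsg.Agent.ChevalleyStructure.Elts Cfsg.Agent.ChevalleyStructure.CoxeterGeom
  Cfsg.Agent.ChevalleyStructure.CoxeterGeomTypes Cfsg.Agent.ChevalleyStructure.NPerm
open Cfsg.Agent.Tits.Roots Cfsg.Agent.Tits.Core Cfsg.Agent.Nodes Cfsg.Agent.Nodes.Reps Cfsg.Agent.Nodes.BNOf
  Cfsg.Agent.Nodes.RGDChev Cfsg.Agent.Nodes.Bruhat Cfsg.Agent.Nodes.Unique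
open Cfsg.Agent.KFacts.RgdField Cfsg.Agent.KFacts.RgdChevCoord Cfsg.Agent.H129.TorusChar
open Cfsg.Agent.H721.SR

universe u

/-! ### products of root elements -/

section Prod

variable {I W Y : Type*} [Fintype I] [DecidableEq I] [Group W] [Group Y] {M : CoxeterMatrix I}
  {cs : CoxeterSystem M W} {A : I → I → ℤ} {h : IsCartan M A} {p : ℕ} {T : Subgroup Y} {n : I → Y}
  {X : (I → ℤ) → Subgroup Y} (R : RGD cs h p T n X) {S : Set (I → ℤ)}

include R

/-- the components of a product of root elements -/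
theorem cmp_prod {a : I → ℤ} (hS : Ind cs h S a) (f : (I → ℤ) → Y) (hf : ∀ z, IsRoot cs h z → f z ∈ X z) :
    ∀ L : List (I → ℤ), L.Nodup → (∀ z ∈ L, z ∈ S) →
      (a ∈ L → Cmp X S a (f a) (L.map f).prod) ∧ (a ∉ L → Cmp X S a 1 (L.map f).prod) := by
  intro L
  induction L with
  | nil =>
    intro _ _
    refine ⟨fun h => absurd h List.not_mem_nil, fun _ => ?_⟩
    rw [List.map_nil, List.prod_nil]
    exact Cmp.one
  | cons z L ih =>
    intro hL hLS
    rw [List.nodup_cons] at hL
    obtain ⟨ih1, ih2⟩ := ih hL.2 fun z hz => hLS z (List.mem_cons_of_mem _ hz)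
    have hzS := hLS z List.mem_cons_self
    rw [List.map_cons, List.prod_cons]
    by_cases hza : z = a
    · subst hza
      refine ⟨fun _ => ?_, fun h => absurd List.mem_cons_self h⟩
      have h1 := Cmp.mul R hS (Cmp.self (S := S) (hf z (hS.pos hS.mem).1)) (ih2 hL.1)
      rwa [mul_one] at h1
    · have h1 : Cmp X S a 1 (f z) := Cmp.of_ne hzS hza (hf z (hS.pos hzS).1)
      constructor
      · intro h2
        have h3 := ih1 ((List.mem_cons.1 h2).resolve_left (Ne.symm hza))
        have h4 := Cmp.mul R hS h1 h3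
        rwa [one_mul] at h4
      · intro h2
        have h3 := ih2 fun h4 => h2 (List.mem_cons_of_mem _ h4)
        have h4 := Cmp.mul R hS h1 h3
        rwa [one_mul] at h4

end Prod

section

variable {D : ChevalleyDatum} {l : ℕ} {M : CoxeterMatrix (Fin l)} (hp : IsType D l M) {K : Type u} [Field K]
  [Finite K] {W : Type*} [Group W] (cs : CoxeterSystem M W) (p : ℕ) [Fact p.Prime] [CharP K p]

theorem GG_top : GG cs hp.isCartan (TT D K) (XX D l K) = ⊤ :=
  KFacts.RgdRigid.GG_eq_top (G1_eq_top hp cs)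

include p in
theorem xc_mem {a : Fin l → ℤ} (ha : IsRoot cs hp.isCartan a) (c : K) : xc hp a c ∈ XX D l K a :=
  (((coords hp cs p).coord a ha).mem _).2 ⟨c, rfl⟩

include p in
theorem XX_comm {a : Fin l → ℤ} (ha : IsRoot cs hp.isCartan a) : ∀ x ∈ XX D l K a, ∀ y ∈ XX D l K a, x * y = y * x := by
  intro x hx y hy
  have C := (coords (K := K) hp cs p).coord a ha
  obtain ⟨b, rfl⟩ := (C.mem _).1 hx
  obtain ⟨c, rfl⟩ := (C.mem _).1 hy
  rw [← C.add, ← C.add, add_comm]

include p in
theorem xc_neg {a : Fin l → ℤ} (ha : IsRoot cs hp.isCartan a) (c : K) : (xc hp a c)⁻¹ = xc hp a (-c) := by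
  have C := (coords (K := K) hp cs p).coord a ha
  rw [inv_eq_iff_mul_eq_one, ← C.add, add_neg_cancel, C.zero]

/-- the simple roots are indecomposable -/
theorem ind_simple {I W : Type*} [Fintype I] [DecidableEq I] [Group W] {M : CoxeterMatrix I}
    (cs : CoxeterSystem M W) {A : I → I → ℤ} (h : IsCartan M A) (i : I) : Ind cs h (RGD.Pos cs h) (sr i) where
  pos := subset_rfl
  closed := closed_pos
  mem := ⟨isRoot_sr cs h i, sr_nonneg i⟩
  ind := by
    rintro x ⟨hx, hxi⟩ y ⟨hy, hyi⟩ z hz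
    exact ⟨closed_pos x hx y hy z hz, RGD.ne_sr_of_btwn hx.2 hy.1 hy.2 hyi hz⟩

/-- the nodes of `J` give a character which is a square on the torus -/
theorem isSquare_char {t : ↥(D.group K)} (ht : t ∈ TT D K) (J : Finset (Fin l))
    (hJ : ∀ i : ℕ, i < D.rank → Even (∑ j ∈ J, D.cartan i (D.simple j))) :
    IsSquare (∏ j ∈ J, ch hp (sr j) t) := by
  obtain ⟨c, hc, -, hact⟩ := H129.Tor.exists_c hp ht
  have key : ∀ j : Fin l, ch hp (sr j) t = ∏ i ∈ Finset.range D.rank, c i ^ D.cartan i (D.simple j) := by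
    intro j
    rw [← vec_simple hp j]
    apply ch_eq hp (simple_lt hp.inList (lt_rank hp j)) ht
    apply Subtype.ext
    have h1 := hact (D.simple j) (simple_lt hp.inList (lt_rank hp j)) 1
    rw [mul_one] at h1
    rw [Subgroup.coe_mul, Subgroup.coe_mul, Subgroup.coe_inv,
      coe_xc hp (simple_lt hp.inList (lt_rank hp j)), coe_xc hp (simple_lt hp.inList (lt_rank hp j))]
    exact h1
  rw [Finset.prod_congr rfl fun j _ => key j, Finset.prod_comm]
  refine Finset.isSquare_prod _ fun i hi => ?_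
  obtain ⟨m, hm⟩ := hJ i (Finset.mem_range.1 hi)
  refine ⟨c i ^ m, ?_⟩
  rw [← zpow_add₀ (hc i (Finset.mem_range.1 hi)), ← hm]
  have h2 : ∀ s : Finset (Fin l), ∏ j ∈ s, c i ^ D.cartan i (D.simple j) = c i ^ ∑ j ∈ s, D.cartan i (D.simple j) := by
    intro s
    induction s using Finset.induction_on with
    | empty => rw [Finset.prod_empty, Finset.sum_empty, zpow_zero]
    | insert a s ha ih => rw [Finset.prod_insert ha, Finset.sum_insert ha, zpow_add₀ (hc i (Finset.mem_range.1 hi)), ih]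
  exact h2 J

include hp cs p in
/-- **Regular unipotent elements are not real** -/
theorem nrel_regular [Finite W] (J : Finset (Fin l)) (hJo : Odd J.card)
    (hJ : ∀ i : ℕ, i < D.rank → Even (∑ j ∈ J, D.cartan i (D.simple j))) (hK : ¬ IsSquare (-1 : K)) :
    NRel ↥(D.group K) := by
  classical
  have R := rgd (K := K) hp cs p
  set f : (Fin l → ℤ) → ↥(D.group K) := fun z => xc hp z 1 with hf
  have hfm : ∀ z, IsRoot cs hp.isCartan z → f z ∈ XX D l K z := fun z hz => xc_mem hp cs p hz 1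
  set L : List (Fin l → ℤ) := (List.finRange l).map sr with hL
  have hsr_inj : Function.Injective (sr : Fin l → (Fin l → ℤ)) := by
    intro i j hij
    by_contra hne
    have h1 := congrFun hij i
    rw [sr_self, sr_ne hne] at h1
    exact one_ne_zero h1
  have hLn : L.Nodup := (List.nodup_finRange l).map hsr_inj
  have hLS : ∀ z ∈ L, z ∈ RGD.Pos cs hp.isCartan := by
    intro z hz
    obtain ⟨i, -, rfl⟩ := List.mem_map.1 hz
    exact ⟨isRoot_sr cs _ i, sr_nonneg i⟩
  have hmemL : ∀ i : Fin l, sr i ∈ L := fun i => List.mem_map.2 ⟨i, List.mem_finRange i, rfl⟩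
  set u := (L.map f).prod with hu
  have hcmp : ∀ i, Cmp (XX D l K) (RGD.Pos cs hp.isCartan) (sr i) (f (sr i)) u := fun i =>
    (cmp_prod R (ind_simple cs hp.isCartan i) f hfm L hLn hLS).1 (hmemL i)
  refine ⟨u, fun hc => ?_⟩
  obtain ⟨c, hc⟩ := isConj_iff.1 hc
  have hle : ∀ z : ↥(D.group K), RGD.Sup (fun x => XX D l K x ⊓ Subgroup.centralizer {z}) (RGD.Pos cs hp.isCartan) ≤
      RGD.Sup (XX D l K) (RGD.Pos cs hp.isCartan) := fun z => RGD.Sup_le fun x hx => le_trans inf_le_left (RGD.le_Sup hx)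
  by_cases hl : Nonempty (Fin l)
  swap
  · -- no nodes: `J` is empty
    have : J = ∅ := by
      rw [Finset.eq_empty_iff_forall_notMem]
      intro j
      exact absurd ⟨j⟩ hl
    rw [this, Finset.card_empty] at hJo
    exact absurd hJo (by decide)
  obtain ⟨i0⟩ := hl
  have huS : u ∈ RGD.Sup (XX D l K) (RGD.Pos cs hp.isCartan) := Cmp.mem R (ind_simple cs hp.isCartan i0) (hcmp i0)
  obtain ⟨w, k, hk, -, -, h1, h2⟩ := bruhat_form R (S := RGD.Pos cs hp.isCartan) subset_rfl closed_pos
    (one_mem (TT D K)) (one_mem (TT D K)) (hle 1) (hle 1) (c := c) (u := u) (u' := u⁻¹)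
    (by rw [GG_top hp cs]; trivial) (by rw [mul_one, one_mul]) huS (inv_mem huS)
    (by rw [← hc]; group)
  have hw : w = 1 := by
    refine eq_one_of_nonneg cs hp.isCartan w fun i => ?_
    refine h1 (sr i) (ind_simple cs hp.isCartan i) (XX_comm hp cs p (isRoot_sr cs _ i)) fun h3 => ?_
    have h4 := Cmp.unique R (ind_simple cs hp.isCartan i) (hcmp i) h3
    exact ((coords (K := K) hp cs p).coord (sr i) (isRoot_sr cs _ i)).ne_one one_ne_zero h4
  subst hw
  have hkT : k ∈ TT D K := hk.mem_of_one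
  have hch : ∀ i, ch hp (sr i) k = -1 := by
    intro i
    have h3 := h2 (fun a ha => by rw [map_one]; exact ha) (sr i) (ind_simple cs hp.isCartan i)
      (by rw [map_one]; exact ind_simple cs hp.isCartan i) (XX_comm hp cs p (isRoot_sr cs _ i))
      (by rw [map_one]; exact XX_comm hp cs p (isRoot_sr cs _ i)) (f (sr i)) (f (sr i))⁻¹ (hcmp i)
      (by rw [map_one]; exact Cmp.inv R (ind_simple cs hp.isCartan i) (hcmp i))
    rw [hf] at h3
    change k * xc hp (sr i) 1 * k⁻¹ = (xc hp (sr i) 1)⁻¹ at h3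
    rw [xc_neg hp cs p (isRoot_sr cs _ i), (ch_sr_act hp hkT i).2, mul_one] at h3
    exact ((coords (K := K) hp cs p).coord (sr i) (isRoot_sr cs _ i)).inj h3
  apply hK
  have h5 := isSquare_char hp hkT J hJ
  rw [Finset.prod_congr rfl fun j _ => hch j, Finset.prod_const, hJo.neg_one_pow] at h5
  exact h5

end

end Cfsg.Agent.H315.SR
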