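import Cfsg.Agent.H315.SR.E7Reg
import Cfsg.Agent.H315.SR.E7Four
import Cfsg.Agent.H196.SRX.Final

/-!
# TEAM SR (S4971): the row `E₇(q)` (helper315)

* `nrel_e7` : for every finite field some element of `E₇(q)` is not real: `q` prime to 3 is helper196's instance of
  helper374's theorem, `q = 3^(2a+1)` is `nrel_e7_of_not_isSquare` (regular unipotent elements), `q = 9^a` is
  `nrel_e7_eight`;
* `rr_e7` : the row.
-/

set_option autoImplicit false

namespace Cfsg.Agent.H315.SR

open Cfsg Cfsg.Lie Cfsg.Agent.H721.SR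

universe u

theorem nrel_e7 (F : Type u) [Field F] [Finite F] : NRel ↥(chevE7.group F) := by
  by_cases h3 : 3 ∣ Nat.card F
  · by_cases hs : IsSquare (-1 : F)
    · have := Fintype.ofFinite F
      obtain ⟨p, hpc⟩ := CharP.exists F
      have hp : Fact p.Prime := ⟨CharP.char_is_prime F p⟩
      obtain ⟨n, -, h2⟩ := FiniteField.card F p
      rw [Nat.card_eq_fintype_card] at h3
      have hp3 : p = 3 := by
        rw [h2] at h3
        exact ((Nat.prime_dvd_prime_iff_eq Nat.prime_three hp.out).1 (Nat.prime_three.dvd_of_dvd_pow h3)).symm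
      subst hp3
      have h4 := FiniteField.isSquare_neg_one_iff.1 hs
      have he : Even (n : ℕ) := by
        by_contra ho
        rw [Nat.not_even_iff_odd] at ho
        obtain ⟨k, hk⟩ := ho
        rw [h2, hk, pow_succ, pow_mul] at h4
        apply h4
        rw [Nat.mul_mod, Nat.pow_mod]
        norm_num
      obtain ⟨k, hk⟩ := he
      have h8 : 8 ∣ Fintype.card F - 1 := by
        rw [h2, hk, ← two_mul, pow_mul]
        have := Nat.sub_dvd_pow_sub_pow 9 1 k
        rw [one_pow] at this
        norm_num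
        exact this
      obtain ⟨ζ, hζ⟩ : ∃ ζ : F, IsPrimitiveRoot ζ 8 := by
        obtain ⟨g, hg⟩ := IsCyclic.exists_ofOrder_eq_natCard (α := Fˣ)
        obtain ⟨m, hm⟩ := h8
        have h5 : Nat.card Fˣ = Fintype.card F - 1 := by
          classical
          rw [Nat.card_eq_fintype_card, Fintype.card_units]
        have hm0 : m ≠ 0 := by
          rintro rfl
          have := Fintype.one_lt_card (α := F)
          omega
        refine ⟨((g ^ m : Fˣ) : F), ?_⟩
        rw [IsPrimitiveRoot.coe_units_iff]
        have h6 : orderOf (g ^ m) = 8 := by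
          rw [orderOf_pow_of_dvd hm0 (by rw [hg, h5, hm]; exact dvd_mul_left _ _), hg, h5, hm]
          exact Nat.mul_div_cancel _ (Nat.pos_of_ne_zero hm0)
        rw [← h6]
        exact IsPrimitiveRoot.orderOf _
      exact nrel_e7_eight F hζ
    · exact nrel_e7_of_not_isSquare F hs
  · exact H196.SRX.nrel_e7 h3

/-- `E₇(q)` has non-real elements -/
theorem nrel_isoE7 {S : Type u} [Group S] (h : Cfsg.Lie.IsoE7 S) : NRel S := by
  obtain ⟨F, _, _, ⟨e⟩⟩ := h
  exact (nrel_e7 F).congr e.symm

/-- **The row `E₇(q)`.** -/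
theorem rr_e7 {S : Type u} [Group S] (h : Cfsg.Lie.IsoE7 S) : RR S := RR.of_nrel (nrel_isoE7 h)

end Cfsg.Agent.H315.SR
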